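import Cfsg.Agent.H588.SN.FiTT
import Cfsg.Agent.R08.AutT
import Cfsg.Agent.Prune
set_option linter.all false
prune_inst 0x7f00000000000000000000000000000000000000000000000000000000000000000000000000000000000000000000000000000000000000000000000000000000000000000000000000000000000000003fffffffffffffffffffffffffffbeffbdffffffff
open scoped Cfsg.Agent.FastGrp

/-!
# Commuting pairs of transpositions of `Fi22` fixed by a `2`-group (helper588, for the Ore row of `B`)

* `card_pairs` : `2 * (number of commuting pairs) = 3510 * 693`; `odd_pairs` : the number `1216215` is odd;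
* `exists_pair` : a finite `2`-group acting on the class `T` preserving commuting fixes such a pair;
* `exists_pair_aut` : the same for a `2`-group acting by automorphisms.
-/

set_option autoImplicit false
set_option maxRecDepth 20000

namespace Cfsg.Agent.H588.Ore

open Cfsg Cfsg.Agent.Fischer Cfsg.Agent.Fischer.Group22 Cfsg.Agent.Fischer.Rank22
open Cfsg.Agent.R01.Fi22Facts (E T mem_T_iff com_iff)
open Cfsg.Agent.H588.SN.FiT (adj deg)

attribute [local instance] Classical.propDecidable

/-- the commuting graph of the transpositions -/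
def Gr : SimpleGraph T where
  Adj a b := a ≠ b ∧ Commute (a : Spor.Fi22) b
  symm := ⟨fun _ _ h => ⟨h.1.symm, h.2.symm⟩⟩
  loopless := ⟨fun _ h => h.1 rfl⟩

theorem adj_iff {a b : T} : Gr.Adj a b ↔ a ≠ b ∧ Commute (a : Spor.Fi22) b := Iff.rfl

/-- the points are the transpositions -/
noncomputable def eT : X ≃ T := Equiv.ofBijective (fun x => ⟨E (R.t x), mem_T_iff.2 ⟨x, rfl⟩⟩) (by
  constructor
  · intro x y h
    exact R.t_injective (E.injective (congrArg (fun z : T => (z : Spor.Fi22)) h))
  · rintro ⟨t, ht⟩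
    obtain ⟨x, hx⟩ := mem_T_iff.1 ht
    exact ⟨x, Subtype.ext hx⟩)

theorem coe_eT (x : X) : ((eT x : T) : Spor.Fi22) = E (R.t x) := rfl

theorem adj_eT (x y : X) : Gr.Adj (eT x) (eT y) ↔ adj x y := by
  rw [adj_iff, coe_eT, coe_eT, com_iff, eT.injective.ne_iff]
  rfl

noncomputable instance : Fintype T := Fintype.ofEquiv X eT

theorem card_X : Nat.card X = 3510 := Nat.card_eq_fintype_card.trans (Fintype.card_fin _)

theorem natCard_T : Nat.card T = 3510 := (Nat.card_congr eT.symm).trans card_X

theorem card_T (i : Fintype T) : @Fintype.card T i = 3510 := (@Nat.card_eq_fintype_card T i).symm.trans natCard_T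

theorem degree (a : T) : Gr.degree a = 693 := by
  obtain ⟨x, rfl⟩ := eT.surjective a
  rw [← deg x, SimpleGraph.degree, ← Finset.card_map eT.toEmbedding]
  congr 1
  ext b
  rw [SimpleGraph.mem_neighborFinset, Finset.mem_map]
  constructor
  · intro h
    obtain ⟨y, rfl⟩ := eT.surjective b
    exact ⟨y, Finset.mem_filter.2 ⟨Finset.mem_univ _, (adj_eT _ _).1 h⟩, rfl⟩
  · rintro ⟨y, hy, rfl⟩
    exact (adj_eT _ _).2 (Finset.mem_filter.1 hy).2

theorem card_edges : Gr.edgeFinset.card = 1216215 := by
  have h := Gr.sum_degrees_eq_twice_card_edges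
  simp only [degree, Finset.sum_const, Finset.card_univ, smul_eq_mul] at h
  rw [card_T] at h
  omega

theorem odd_edges : Odd (Nat.card Gr.edgeSet) := by
  have h : Nat.card Gr.edgeSet = 1216215 := by
    rw [Nat.card_eq_fintype_card, ← SimpleGraph.edgeFinset_card, card_edges]
  rw [h]
  decide

/-- **a `2`-group acting on the transpositions preserving commuting fixes a commuting pair** -/
theorem exists_pair {Q : Type*} [Group Q] [Finite Q] (hQ : IsPGroup 2 Q) [MulAction Q T]
    (hc : ∀ (q : Q) (a b : T), Commute (a : Spor.Fi22) b → Commute ((q • a : T) : Spor.Fi22) (q • b : T)) :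
    ∃ a ∈ T, ∃ b ∈ T, a ≠ b ∧ Commute a b ∧ ∀ (ha : a ∈ T) (hb : b ∈ T) (q : Q),
      (((q • (⟨a, ha⟩ : T) : T) : Spor.Fi22) = a ∧ ((q • (⟨b, hb⟩ : T) : T) : Spor.Fi22) = b) ∨
      (((q • (⟨a, ha⟩ : T) : T) : Spor.Fi22) = b ∧ ((q • (⟨b, hb⟩ : T) : T) : Spor.Fi22) = a) := by
  have hadj : ∀ (q : Q) (a b : T), Gr.Adj a b → Gr.Adj (q • a) (q • b) := fun q a b h =>
    ⟨fun h1 => h.1 (MulAction.injective q h1), hc q a b h.2⟩
  let act : Q → Gr.edgeSet → Gr.edgeSet := fun q e => ⟨Sym2.map (q • ·) e, by
    obtain ⟨e, he⟩ := e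
    induction e using Sym2.ind with
    | _ a b => exact hadj q a b he⟩
  let _ : MulAction Q Gr.edgeSet :=
    { smul := act
      one_smul := by
        rintro ⟨e, he⟩
        apply Subtype.ext
        show Sym2.map ((1 : Q) • ·) e = e
        induction e using Sym2.ind with
        | _ a b => simp
      mul_smul := by
        rintro q q' ⟨e, he⟩
        apply Subtype.ext
        show Sym2.map ((q * q' : Q) • ·) e = Sym2.map (q • ·) (Sym2.map (q' • ·) e)
        induction e using Sym2.ind with
        | _ a b => simp [mul_smul] }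
  have hfin : Finite Gr.edgeSet := inferInstance
  have h2 : Fact (Nat.Prime 2) := ⟨Nat.prime_two⟩
  have h := hQ.card_modEq_card_fixedPoints Gr.edgeSet
  have hne : (MulAction.fixedPoints Q Gr.edgeSet).Nonempty := by
    by_contra hcon
    rw [Set.not_nonempty_iff_eq_empty] at hcon
    rw [hcon] at h
    have h3 : Nat.card (∅ : Set Gr.edgeSet) = 0 := by simp
    rw [h3] at h
    have h4 := Nat.odd_iff.1 odd_edges
    unfold Nat.ModEq at h
    omega
  obtain ⟨⟨e, he⟩, hfix⟩ := hne
  induction e using Sym2.ind with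
  | _ a b =>
    refine ⟨a, a.2, b, b.2, fun h1 => he.1 (Subtype.ext h1), he.2, fun _ _ q => ?_⟩
    have h3 : Sym2.map (q • ·) s(a, b) = s(a, b) := congrArg Subtype.val (hfix q)
    rw [Sym2.map_mk, Sym2.eq_iff] at h3
    rcases h3 with ⟨h4, h5⟩ | ⟨h4, h5⟩
    · exact Or.inl ⟨congrArg Subtype.val h4, congrArg Subtype.val h5⟩
    · exact Or.inr ⟨congrArg Subtype.val h4, congrArg Subtype.val h5⟩

end Cfsg.Agent.H588.Ore
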